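import Mathlib
import Cfsg.Agent.H586.GW.Rel
import Cfsg.Agent.H596.WeightedFix
import Cfsg.Agent.S4455
import Cfsg.Agent.H706.Canon
import Cfsg.Agent.H625.PHZ

/-!
# Invariant characters over an invariant character, and determinantal orders
-/

set_option autoImplicit false
set_option linter.style.haveILetI false
set_option linter.unusedSectionVars false
open Cfsg

namespace Cfsg.Agent.H676.DL

open Cfsg.Agent.Characters.Core Cfsg.Agent.H672
open Cfsg.Agent.OddOrderCharacters Cfsg.Agent.OddOrderCharacters.IndRes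
open scoped ComplexConjugate

universe u

/-- the determinant of a representation whose character is a multiple of another one -/
theorem det_eq_pow {X : Type*} [Group X] [Finite X] {m n e : ℕ}
    (ρ : Representation ℂ X (Fin m → ℂ)) (σ : Representation ℂ X (Fin n → ℂ))
    (h : ∀ x, ρ.character x = e * σ.character x) (x : X) :
    LinearMap.det (ρ x) = LinearMap.det (σ x) ^ e := by
  classical
  let τ : Representation ℂ X (TensorProduct ℂ (Fin e → ℂ) (Fin n → ℂ)) :=
    Representation.tprod (Representation.trivial ℂ X (Fin e → ℂ)) σ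
  have h1 : ρ.character = τ.character := by
    funext y
    rw [h y]
    have h2 := congrFun (Representation.char_tensor (Representation.trivial ℂ X (Fin e → ℂ)) σ) y
    rw [Pi.mul_apply] at h2
    have h3 : (Representation.trivial ℂ X (Fin e → ℂ)).character y = e := by
      change LinearMap.trace ℂ (Fin e → ℂ) LinearMap.id = e
      rw [LinearMap.trace_id]
      simp
    rw [h3] at h2
    exact h2.symm
  obtain ⟨E⟩ := nonempty_equiv_of_character_eq ρ τ h1
  rw [CharDeep.IrrEquiv.det_eq_of_equiv _ _ E x]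
  have h4 := TensorProduct.toMatrix_map (Pi.basisFun ℂ (Fin e)) (Pi.basisFun ℂ (Fin n))
    (Pi.basisFun ℂ (Fin e)) (Pi.basisFun ℂ (Fin n)) LinearMap.id (σ x)
  have h5 : τ x = TensorProduct.map (LinearMap.id : (Fin e → ℂ) →ₗ[ℂ] (Fin e → ℂ)) (σ x) := rfl
  rw [h5, ← LinearMap.det_toMatrix ((Pi.basisFun ℂ (Fin e)).tensorProduct
    (Pi.basisFun ℂ (Fin n))), h4, Matrix.det_kronecker, LinearMap.toMatrix_id, Matrix.det_one,
    one_pow, one_mul, LinearMap.det_toMatrix, Fintype.card_fin]

section inv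
variable {X : Type u} [Group X] [Finite X] (N : Subgroup X) [hN : N.Normal]

theorem conjFn_of_inertia {θ : N → ℂ} (hinv : inertia N θ = ⊤) (g : X) :
    NormalInduced.conjFn N θ g = θ := by
  have h := RM.mem_iff_conjFn N (inertia N θ) rfl g
  exact h.1 (by rw [hinv]; exact Subgroup.mem_top g)

/-- An irreducible character over an invariant one restricts to a multiple. -/
theorem restrict_eq {θ : N → ℂ} (hθ : IsIrrCharacter N θ) (hinv : inertia N θ = ⊤) {η : X → ℂ}
    (hη : IsIrrCharacter X η) (hov : Over N.subtype η θ) :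
    ∃ e : ℕ, charDegree η = e * charDegree θ ∧ (∀ n : N, η n = e * θ n) ∧ e ∣ N.index := by
  classical
  letI := Fintype.ofFinite X
  letI := Fintype.ofFinite N
  obtain ⟨⟨e, he⟩, h2⟩ := charDegree_dvd_of_over N hη hθ hov
  have hpos := charDegree_pos hθ
  rw [he, Nat.mul_div_cancel_left _ hpos] at h2
  refine ⟨e, by rw [he, mul_comm], fun n => ?_, h2⟩
  have h3 := PF9.CliffGen.res_of_invariant hθ (conjFn_of_inertia N hinv) hη
    ((RM.over_res _ _).1 hov) n
  have h4 : θ 1 ≠ 0 := isIrr_apply_one_ne_zero hθ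
  rw [← coe_charDegree hη, he, Nat.cast_mul, coe_charDegree hθ] at h3
  apply mul_right_cancel₀ h4
  rw [h3]
  ring

/-- The ramification numbers over an invariant character. -/
theorem sum_sq {θ : N → ℂ} (hθ : IsIrrCharacter N θ) (hinv : inertia N θ = ⊤) [Fintype N]
    [Fintype (IrrCharacter X)] :
    ∃ c : IrrCharacter X → ℕ, (∀ η : IrrCharacter X, classInner θ (fun n : N => (η : X → ℂ) n) = c η) ∧
      ∑ η : IrrCharacter X, c η ^ 2 = N.index := by
  classical
  letI := Fintype.ofFinite X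
  obtain ⟨c, hc, hc'⟩ := CharDeep.CliffordCorr.exists_nat_coeffs_indFun N (isIrr_isCharacter hθ)
  refine ⟨c, hc', ?_⟩
  have h1 := congrFun hc 1
  rw [indFun_apply_one, Finset.sum_apply] at h1
  have h2 : ∀ η : IrrCharacter X, ((c η : ℂ) • (η : X → ℂ)) 1 = ((c η ^ 2 : ℕ) : ℂ) * θ 1 := by
    intro η
    by_cases h0 : c η = 0
    · rw [h0]; simp
    · have hov : Over N.subtype (η : X → ℂ) θ := by
        rw [over_subtype_iff]
        intro h
        apply h0
        have h3 := hc' η
        rw [← classInner_conj_symm, h, map_zero] at h3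
        exact_mod_cast h3.symm
      obtain ⟨e, h3, h4, -⟩ := restrict_eq N hθ hinv η.2 hov
      have h5 : e = c η := by
        have h6 := hc' η
        have h7 : (fun n : N => (η : X → ℂ) n) = (e : ℂ) • θ := by
          funext n
          rw [h4 n, Pi.smul_apply, smul_eq_mul]
        rw [h7, ← classInner_conj_symm, classInner_smul_left, classInner_irr_self hθ, mul_one,
          Complex.conj_natCast] at h6
        exact_mod_cast h6
      rw [Pi.smul_apply, smul_eq_mul, ← coe_charDegree η.2, h3, h5, ← coe_charDegree hθ]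
      push_cast
      ring
  rw [Finset.sum_congr rfl fun η _ => h2 η, ← Finset.sum_mul] at h1
  have h4 : θ 1 ≠ 0 := isIrr_apply_one_ne_zero hθ
  have h5 := mul_right_cancel₀ h4 h1
  exact_mod_cast h5.symm

/-- The determinantal order over an invariant character of a normal subgroup of index prime to
`p`. -/
theorem not_dvd_detOrder {p : ℕ} (hp : p.Prime) {θ : N → ℂ} (hθ : IsIrrCharacter N θ)
    (hinv : inertia N θ = ⊤) (hidx : ¬ p ∣ N.index) (hd : ¬ p ∣ detOrder θ) {η : X → ℂ}
    (hη : IsIrrCharacter X η) (hov : Over N.subtype η θ) : ¬ p ∣ detOrder η := by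
  obtain ⟨e, -, h2, -⟩ := restrict_eq N hθ hinv hη hov
  obtain ⟨δ, hδ⟩ := CharactersDeep.ExtUnique.exists_hom_detChar hη
  obtain ⟨ε, hε⟩ := CharactersDeep.ExtUnique.exists_hom_detChar hθ
  have h3 : ∀ n : N, δ n = ε n ^ e := by
    intro n
    apply Units.ext
    rw [← hδ, Units.val_pow_eq_pow_val, ← hε]
    obtain ⟨a, ρ, hρ, hρ'⟩ := hη
    obtain ⟨b, σ, hσ, hσ'⟩ := hθ
    subst hρ'
    subst hσ'
    rw [CharactersDeep.ExtUnique.detChar_of_rep ρ hρ, CharactersDeep.ExtUnique.detChar_of_rep σ hσ]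
    exact det_eq_pow (MonoidHom.comp ρ N.subtype : Representation ℂ N (Fin a → ℂ)) σ h2 n
  have h4 : ∀ n : N, ε n ^ detOrder θ = 1 := by
    intro n
    apply Units.ext
    have h5 := congrFun (pow_orderOf_eq_one (detChar θ)) n
    rw [Pi.pow_apply, hε] at h5
    exact h5
  have h6 : detOrder η ∣ N.index * detOrder θ := by
    unfold detOrder
    rw [orderOf_dvd_iff_pow_eq_one]
    funext x
    rw [Pi.pow_apply, hδ, Pi.one_apply, ← Units.val_pow_eq_pow_val, pow_mul, ← map_pow]
    have h7 : x ^ N.index ∈ N := Subgroup.pow_index_mem N x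
    have h8 := h3 ⟨x ^ N.index, h7⟩
    change δ (x ^ N.index) = _ at h8
    rw [h8, ← pow_mul, mul_comm, pow_mul]
    have h9 := h4 ⟨x ^ N.index, h7⟩
    unfold detOrder at h9
    rw [h9, one_pow, Units.val_one]
  intro h
  rcases (Nat.Prime.dvd_mul hp).1 (h.trans h6) with h | h
  · exact hidx h
  · exact hd h

end inv

section amb
variable {G : Type u} [Group G] [Finite G] (N M : Subgroup G) [hN : N.Normal]

theorem isIrr_sub (hNM : N ≤ M) {θ : N → ℂ} (hθ : IsIrrCharacter N θ) :
    IsIrrCharacter (N.subgroupOf M) (θ ∘ Subgroup.subgroupOfEquivOfLe hNM) :=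
  isIrr_comp (Subgroup.subgroupOfEquivOfLe hNM).toMonoidHom
    (Subgroup.subgroupOfEquivOfLe hNM).surjective hθ

theorem inertia_sub {T : Subgroup G} (hNT : N ≤ T) {θ : N → ℂ} (hT : T ≤ inertia N θ) :
    inertia (N.subgroupOf T) (θ ∘ Subgroup.subgroupOfEquivOfLe hNT) = ⊤ := by
  rw [eq_top_iff]
  intro x _
  rw [mem_inertia_iff]
  intro n
  have h1 := mem_inertia_iff.1 (hT x.2) ⟨(n : T), n.2⟩
  exact h1

theorem over_sub (hNM : N ≤ M) (θ : N → ℂ) (η : M → ℂ) :
    Over (N.subgroupOf M).subtype η (θ ∘ Subgroup.subgroupOfEquivOfLe hNM) ↔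
      Over (Subgroup.inclusion hNM) η θ := by
  rw [← over_comp_equiv (Subgroup.inclusion hNM) (Subgroup.subgroupOfEquivOfLe hNM)]
  rfl

theorem exists_inv_over [hM : M.Normal] {p : ℕ} [hp : Fact p.Prime] (hNM : N ≤ M) {θ : N → ℂ}
    (hθ : IsIrrCharacter N θ) (hinv : inertia N θ = ⊤) (hidx : ¬ p ∣ N.relIndex M)
    (S : Subgroup G) (hS : IsPGroup p S) :
    ∃ η : M → ℂ, IsIrrCharacter M η ∧ Over (Subgroup.inclusion hNM) η θ ∧ S ≤ inertia M η := by
  classical
  letI := Fintype.ofFinite G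
  letI := Fintype.ofFinite M
  letI := Fintype.ofFinite N
  letI := Fintype.ofFinite (N.subgroupOf M)
  haveI := finite_irr (G := M)
  letI := Fintype.ofFinite (IrrCharacter M)
  have hθ' := isIrr_sub N M hNM hθ
  have hinv' := inertia_sub N hNM (θ := θ) (T := M) (by rw [hinv]; exact le_top)
  obtain ⟨c, hc, hsum⟩ := sum_sq (N.subgroupOf M) hθ' hinv'
  have hc2 : ∀ η : IrrCharacter M,
      classInner θ ((η : M → ℂ) ∘ Subgroup.inclusion hNM) = c η := by
    intro η
    rw [← hc η, ← Characters.Clifford.classInner_comp_mulEquiv (Subgroup.subgroupOfEquivOfLe hNM) θ]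
    rfl
  letI : MulAction G (IrrCharacter M) := S4455.conjAction M
  have hw : ∀ (g : G) (η : IrrCharacter M), c (g • η) = c η := by
    intro g η
    have h1 := hc2 (g • η)
    have h2 : ((g • η : IrrCharacter M) : M → ℂ) ∘ Subgroup.inclusion hNM =
        ((η : M → ℂ) ∘ Subgroup.inclusion hNM) ∘ (MulAut.conjNormal g⁻¹ : MulAut N) := rfl
    have h3 : θ = θ ∘ (MulAut.conjNormal g⁻¹ : MulAut N) := by
      have h4 : g⁻¹ ∈ inertia N θ := by rw [hinv]; exact Subgroup.mem_top _
      exact (mem_inertia.1 h4).symm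
    rw [h2] at h1
    have h5 := Characters.Clifford.classInner_comp_mulEquiv (MulAut.conjNormal g⁻¹ : MulAut N) θ
      ((η : M → ℂ) ∘ Subgroup.inclusion hNM)
    rw [← h3, h1, hc2 η] at h5
    exact_mod_cast h5
  have key := H596.sum_modEq_sum_fixed (P := S) hS (fun η : IrrCharacter M => c η ^ 2)
    (fun g η => by
      have := hw g η
      change c ((g : G) • η) ^ 2 = _
      rw [this])
  rw [hsum] at key
  obtain ⟨s, hs, key⟩ : ∃ s : Finset (IrrCharacter M), (∀ η ∈ s, ∀ g : S, g • η = η) ∧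
      (N.subgroupOf M).index ≡ ∑ η ∈ s, c η ^ 2 [MOD p] := by
    refine ⟨_, ?_, key⟩
    intro η hη
    simp only [Finset.mem_filter] at hη
    exact hη.2
  have h1 : ¬ p ∣ ∑ a ∈ s, c a ^ 2 := by
    intro h
    exact hidx ((key.dvd_iff dvd_rfl).2 h)
  obtain ⟨η, hη, hη'⟩ : ∃ η ∈ s, ¬ p ∣ c η ^ 2 := by
    by_contra hcon
    push Not at hcon
    exact h1 (Finset.dvd_sum hcon)
  have hη2 := hs η hη
  refine ⟨η, η.2, ?_, ?_⟩
  · rw [over_iff]
    intro h
    apply hη'
    have h3 := hc2 η
    rw [← classInner_conj_symm, h, map_zero] at h3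
    have h4 : c η = 0 := by exact_mod_cast h3.symm
    rw [h4]
    simp
  · intro s hs
    have h3 := congrArg (fun x : IrrCharacter M => (x : M → ℂ)) (hη2 ⟨s, hs⟩⁻¹)
    rw [mem_inertia]
    have h4 : ((s⁻¹ • η : IrrCharacter M) : M → ℂ) =
      (η : M → ℂ) ∘ (MulAut.conjNormal (s⁻¹)⁻¹ : MulAut M) := rfl
    rw [inv_inv] at h4
    rw [← h4]
    exact h3

end amb

end Cfsg.Agent.H676.DL
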