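import Mathlib
import Cfsg.Agent.H676.DL.Prep
import Cfsg.Agent.H676.RM.Corr
import Cfsg.Agent.H511.Wt.Dser

/-!
# The derived length modulo `N` and the number of characters over `θ` of degree divisible by `p`
-/

set_option autoImplicit false
set_option linter.style.haveILetI false
set_option linter.unusedSectionVars false
open Cfsg

namespace Cfsg.Agent.H676.DL

open Cfsg.Agent.Characters.Core Cfsg.Agent.H672
open Cfsg.Agent.OddOrderCharacters Cfsg.Agent.OddOrderCharacters.IndRes
open Cfsg.Agent.H511.Wt (dser dser_succ dser_mono dser_anti dser_add_le map_dser dser_le dser_zero)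
open Cfsg.Agent.H586.GW (Goal RelP AbP)
open scoped ComplexConjugate commutatorElement

universe u

/-- the number of irreducible characters over `θ` of degree divisible by `p` -/
noncomputable def pos (p : ℕ) {G H : Type*} [Group G] [Group H] [Finite H] (f : H →* G)
    (θ : H → ℂ) : ℕ :=
  Nat.card {χ : IrrCharacter G // Over f (χ : G → ℂ) θ ∧ p ∣ charDegree (χ : G → ℂ)}

/-- The statement for index `n`. -/
def Star (p n : ℕ) : Prop :=
  ∀ {G : Type u} [Group G] [Finite G] (N : Subgroup G) [N.Normal] (θ : N → ℂ),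
    IsIrrCharacter N θ → IsPSolvable p (G ⧸ N) → N.index = n → inertia N θ = ⊤ →
    ¬ p ∣ charDegree θ → ¬ p ∣ detOrder θ → ∀ P : Subgroup G, N ≤ P →
    (∃ a, N.relIndex P = p ^ a) → dser P (pos p N.subtype θ + 1) ≤ N

section
variable {p : ℕ} [hp : Fact p.Prime] {G : Type u} [Group G] [Finite G] (N : Subgroup G)
  [hN : N.Normal]

theorem relIndex_comap_mk (K : Subgroup (G ⧸ N)) :
    N.relIndex (K.comap (QuotientGroup.mk' N)) = Nat.card K := by
  have h1 := Subgroup.relIndex_comap (⊥ : Subgroup (G ⧸ N)) (QuotientGroup.mk' N)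
    (K.comap (QuotientGroup.mk' N))
  rw [Subgroup.map_comap_eq_self_of_surjective (QuotientGroup.mk'_surjective N),
    Subgroup.relIndex_bot_left, MonoidHom.comap_bot, QuotientGroup.ker_mk'] at h1
  exact h1

/-- the bottom of a chief series above `N` -/
theorem exists_step (hps : IsPSolvable p (G ⧸ N)) (hNt : N ≠ ⊤) :
    ∃ M : Subgroup G, M.Normal ∧ N < M ∧ (¬ p ∣ N.relIndex M ∨
      ((∃ k, N.relIndex M = p ^ k) ∧ ∀ a ∈ M, ∀ b ∈ M, ⁅a, b⁆ ∈ N)) := by
  haveI : Nontrivial (G ⧸ N) := by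
    rw [← not_subsingleton_iff_nontrivial, QuotientGroup.subsingleton_iff]
    exact hNt
  have hlt : ∀ K : Subgroup (G ⧸ N), K ≠ ⊥ → N < K.comap (QuotientGroup.mk' N) := by
    intro K hK
    have h1 : N ≤ K.comap (QuotientGroup.mk' N) := by
      intro x hx
      rw [Subgroup.mem_comap]
      have h2 : QuotientGroup.mk' N x = 1 := (QuotientGroup.eq_one_iff x).2 hx
      rw [h2]
      exact K.one_mem
    refine lt_of_le_of_ne h1 fun h => hK ?_
    have h2 := Subgroup.map_comap_eq_self_of_surjective (QuotientGroup.mk'_surjective N) K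
    rw [← h2, ← h, QuotientGroup.map_mk'_self]
  rcases Lib.PSolvable.exists_core_ne_bot p hps with h | h
  · haveI := Lib.Cores.pCore_normal (G := G ⧸ N) p
    have hpg : IsPGroup p (pCore p (G ⧸ N)) := Lib.Cores.pCore_isPGroup p
    haveI : Nontrivial (pCore p (G ⧸ N)) := (Subgroup.nontrivial_iff_ne_bot _).2 h
    let Z : Subgroup (G ⧸ N) := (Subgroup.center (pCore p (G ⧸ N))).map (pCore p (G ⧸ N)).subtype
    have hZn : Z.Normal := ConjAct.normal_of_characteristic_of_normal
    have hZ : Z ≠ ⊥ := by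
      intro h0
      rw [Subgroup.map_eq_bot_iff_of_injective _ (Subgroup.subtype_injective _)] at h0
      exact (Subgroup.nontrivial_iff_ne_bot _).1 (hpg.center_nontrivial) h0
    refine ⟨Z.comap (QuotientGroup.mk' N), inferInstance, hlt Z hZ, Or.inr ⟨?_, ?_⟩⟩
    · rw [relIndex_comap_mk]
      have h1 : IsPGroup p Z := (hpg.to_subgroup _).map _
      exact h1.exists_card_eq
    · intro a ha b hb
      obtain ⟨x, hx, hxa⟩ := ha
      obtain ⟨y, hy, hyb⟩ := hb
      rw [← QuotientGroup.eq_one_iff, commutatorElement_def]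
      have h1 : (x : pCore p (G ⧸ N)) * y = y * x := (Subgroup.mem_center_iff.1 hy x)
      have h2 : QuotientGroup.mk' N a * QuotientGroup.mk' N b =
          QuotientGroup.mk' N b * QuotientGroup.mk' N a := by
        rw [← hxa, ← hyb]
        exact congrArg Subtype.val h1
      change QuotientGroup.mk' N (a * b * a⁻¹ * b⁻¹) = 1
      rw [map_mul, map_mul, map_mul, map_inv, map_inv, h2]
      group
  · haveI := Lib.Cores.pPrimeCore_normal (G := G ⧸ N) p
    refine ⟨(pPrimeCore p (G ⧸ N)).comap (QuotientGroup.mk' N), inferInstance, hlt _ h,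
      Or.inl ?_⟩
    rw [relIndex_comap_mk]
    have h1 : (Nat.card (pPrimeCore p (G ⧸ N))).Coprime p := Lib.Cores.pPrimeCore_coprime p
    exact (Nat.Prime.coprime_iff_not_dvd hp.out).1 h1.symm

/-- quotients of subgroups -/
theorem pSolvable_sub (M T : Subgroup G) [M.Normal] (hNM : N ≤ M) (hps : IsPSolvable p (G ⧸ N)) :
    IsPSolvable p (T ⧸ M.subgroupOf T) := by
  have h1 : IsPSolvable p (G ⧸ M) := by
    refine Lib.PSolvable.IsPSolvable_of_surjective p hps
      (QuotientGroup.map N M (MonoidHom.id G) (by rwa [Subgroup.comap_id])) ?_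
    intro x
    obtain ⟨g, rfl⟩ := QuotientGroup.mk_surjective x
    exact ⟨QuotientGroup.mk g, rfl⟩
  refine Lib.PSolvable.IsPSolvable_of_injective p h1
    (QuotientGroup.map (M.subgroupOf T) M T.subtype le_rfl) ?_
  rw [injective_iff_map_eq_one]
  intro x hx
  obtain ⟨t, rfl⟩ := QuotientGroup.mk_surjective x
  have h2 : (QuotientGroup.mk (t : G) : G ⧸ M) = 1 := hx
  rw [QuotientGroup.eq_one_iff] at h2
  exact (QuotientGroup.eq_one_iff t).2 h2

/-- composition of `Over` -/
theorem over_trans {M : Subgroup G} (hNM : N ≤ M) {θ : N → ℂ} (hθ : IsIrrCharacter N θ)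
    {η : M → ℂ} (hη : IsIrrCharacter M η) (h : Over (Subgroup.inclusion hNM) η θ) {χ : G → ℂ}
    (hχ : IsIrrCharacter G χ) (h1 : Over M.subtype χ η) : Over N.subtype χ θ := by
  have e : M.subtype.comp (Subgroup.inclusion hNM) = N.subtype := rfl
  rw [← e]
  exact (over_comp_iff _ _ (isIrr_isCharacter hχ) hθ).2 ⟨η, hη, h1, h⟩

theorem pos_le_of_over {M : Subgroup G} (hNM : N ≤ M) {θ : N → ℂ} (hθ : IsIrrCharacter N θ)
    {η : M → ℂ} (hη : IsIrrCharacter M η) (h : Over (Subgroup.inclusion hNM) η θ) :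
    pos p M.subtype η ≤ pos p N.subtype θ := by
  haveI := finite_irr (G := G)
  unfold pos
  exact Nat.card_le_card_of_injective
    (fun χ => ⟨χ.1, over_trans N hNM hθ hη h χ.1.2 χ.2.1, χ.2.2⟩)
    (fun χ χ' h1 => by
      have h2 := Subtype.mk.inj h1
      exact Subtype.ext h2)

/-- Clifford correspondence. -/
theorem pos_inertia_le {η : N → ℂ} (hη : IsIrrCharacter N η) (hNT : N ≤ inertia N η) :
    pos p (N.subgroupOf (inertia N η)).subtype (η ∘ Subgroup.subgroupOfEquivOfLe hNT) ≤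
      pos p N.subtype η := by
  classical
  letI := Fintype.ofFinite G
  letI := Fintype.ofFinite N
  letI := Fintype.ofFinite (inertia N η)
  haveI := finite_irr (G := G)
  have hT' := RM.mem_iff_conjFn N (inertia N η) (θ := η) rfl
  have key : ∀ ψ : IrrCharacter (inertia N η),
      Over (N.subgroupOf (inertia N η)).subtype (ψ : inertia N η → ℂ)
        (η ∘ Subgroup.subgroupOfEquivOfLe hNT) →
      classInner (PF9.CliffGen.resTo hNT (ψ : inertia N η → ℂ)) η ≠ 0 := by
    intro ψ h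
    exact (RM.over_resTo hNT _ _).1 ((over_sub N (inertia N η) hNT η _).1 h)
  have hirr : ∀ ψ : IrrCharacter (inertia N η),
      Over (N.subgroupOf (inertia N η)).subtype (ψ : inertia N η → ℂ)
        (η ∘ Subgroup.subgroupOfEquivOfLe hNT) →
      IsIrrCharacter G (indFun (inertia N η) (ψ : inertia N η → ℂ)) := fun ψ h =>
    PF9.CliffGen.irr_ind hη hT' hNT ψ.2 (key ψ h)
  unfold pos
  refine Nat.card_le_card_of_injective
    (fun ψ => ⟨⟨indFun (inertia N η) (ψ.1 : inertia N η → ℂ), hirr ψ.1 ψ.2.1⟩, ?_, ?_⟩) ?_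
  · exact RM.over_indFun N hη (inertia N η) hNT ψ.1.2 (hirr ψ.1 ψ.2.1)
      ((over_sub N (inertia N η) hNT η _).1 ψ.2.1)
  · change p ∣ charDegree (indFun (inertia N η) (ψ.1 : inertia N η → ℂ))
    rw [charDegree_indFun (inertia N η) ψ.1.2 rfl]
    exact ψ.2.2.mul_left _
  · intro ψ ψ' h
    apply Subtype.ext
    apply Subtype.ext
    have h1 : indFun (inertia N η) (ψ.1 : inertia N η → ℂ) =
        indFun (inertia N η) (ψ'.1 : inertia N η → ℂ) := congrArg (fun x => (x.1 : G → ℂ)) h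
    exact PF9.CliffGen.ind_inj hη hT' hNT ψ.1.2 ψ'.1.2 (key ψ.1 ψ.2.1) (key ψ'.1 ψ'.2.1) h1

theorem charDegree_comp_equiv {X Y : Type*} [Group X] [Group Y] (e : Y ≃* X) (θ : X → ℂ) :
    charDegree (θ ∘ e) = charDegree θ := by
  rw [Blocks.Basic.charDegree_def, Blocks.Basic.charDegree_def, Function.comp, map_one]

theorem detOrder_comp_equiv {X Y : Type*} [Group X] [Group Y] [Finite X] [Finite Y] (e : Y ≃* X)
    {θ : X → ℂ} (hθ : IsIrrCharacter X θ) : detOrder (θ ∘ e) = detOrder θ := by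
  have h1 : detChar (θ ∘ e) = detChar θ ∘ e :=
    funext fun x => H676.RM.Corr.detChar_comp e.toMonoidHom hθ e.surjective x
  unfold detOrder
  rw [h1]
  apply orderOf_eq_orderOf_iff.2
  intro n
  constructor
  · intro h
    funext g
    have h1 := congrFun h (e.symm g)
    simpa using h1
  · intro h
    funext g
    have h1 := congrFun h (e g)
    simpa using h1

theorem relIndex_sup_pow {M P : Subgroup G} [M.Normal] (hNM : N ≤ M)
    (hP : ∃ a, N.relIndex P = p ^ a) : ∃ a, M.relIndex (P ⊔ M) = p ^ a := by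
  obtain ⟨a, ha⟩ := hP
  have h1 : M.relIndex (P ⊔ M) ∣ p ^ a := by
    rw [sup_comm, Subgroup.relIndex_sup_left, ← ha]
    exact Subgroup.relIndex_dvd_of_le_left P hNM
  obtain ⟨j, -, hj⟩ := (Nat.dvd_prime_pow hp.out).1 h1
  exact ⟨j, hj⟩

/-- the step for a section of order prime to `p` -/
theorem star_pp (ih : ∀ k < N.index, Star.{u} p k) {θ : N → ℂ} (hθ : IsIrrCharacter N θ)
    (hps : IsPSolvable p (G ⧸ N)) (hinv : inertia N θ = ⊤) (hd : ¬ p ∣ charDegree θ)
    (ho : ¬ p ∣ detOrder θ) {M : Subgroup G} [hM : M.Normal] (hNM : N < M)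
    (hidx : ¬ p ∣ N.relIndex M) (P : Subgroup G) (hNP : N ≤ P) (hP : ∃ a, N.relIndex P = p ^ a) :
    dser P (pos p N.subtype θ + 1) ≤ N := by
  obtain ⟨S⟩ : Nonempty (Sylow p G) := inferInstance
  obtain ⟨η, hη, hov, hS⟩ := exists_inv_over N M hNM.le hθ hinv hidx (S : Subgroup G) S.isPGroup'
  have hMT : M ≤ inertia M η := le_inertia (isIrr_isClassFunction hη)
  have hNT : N ≤ inertia M η := hNM.le.trans hMT
  have hT : ¬ p ∣ (inertia M η).index := fun h =>
    S.not_dvd_index (h.trans (Subgroup.index_dvd_of_le hS))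
  obtain ⟨g, hg⟩ := H586.GW.exists_conj_le N hp.out hNP hNT hP hT
  obtain ⟨P', hP'⟩ : ∃ P' : Subgroup G, P' = P.map (MulAut.conj g⁻¹).toMonoidHom := ⟨_, rfl⟩
  have hP'T : P' ≤ inertia M η := by
    rw [hP']
    rintro _ ⟨x, hx, rfl⟩
    have := hg x hx
    simpa [MulAut.conj_apply] using this
  have hN' : N.map (MulAut.conj g⁻¹).toMonoidHom = N := by
    ext x
    constructor
    · rintro ⟨y, hy, rfl⟩
      exact hN.conj_mem y hy g⁻¹
    · intro hx
      refine ⟨g * x * g⁻¹, hN.conj_mem x hx g, ?_⟩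
      simp only [MulEquiv.coe_toMonoidHom, MulAut.conj_apply]
      group
  have hNP' : N ≤ P' := by
    rw [hP', ← hN']
    exact Subgroup.map_mono hNP
  have hrel : N.relIndex P' = N.relIndex P := by
    have h1 : (N.map (MulAut.conj g⁻¹).toMonoidHom).relIndex (P.map (MulAut.conj g⁻¹).toMonoidHom) =
      N.relIndex P := Subgroup.relIndex_map_map_of_injective _ _ (MulAut.conj g⁻¹).injective
    rwa [hN', ← hP'] at h1
  -- degrees and determinants
  have hθ' := isIrr_sub N M hNM.le hθ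
  have hinv' := inertia_sub N hNM.le (θ := θ) (T := M) (by rw [hinv]; exact le_top)
  have hov' := (over_sub N M hNM.le θ η).2 hov
  obtain ⟨e, he, -, hei⟩ := restrict_eq (N.subgroupOf M) hθ' hinv' hη hov'
  have hdη : ¬ p ∣ charDegree η := by
    rw [he, charDegree_comp_equiv]
    intro h
    rcases (Nat.Prime.dvd_mul hp.out).1 h with h | h
    · exact hidx (h.trans hei)
    · exact hd h
  have hoη : ¬ p ∣ detOrder η := by
    refine not_dvd_detOrder (N.subgroupOf M) hp.out hθ' hinv' hidx ?_ hη hov'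
    rwa [detOrder_comp_equiv _ hθ]
  -- the induction
  have hlt : (M.subgroupOf (inertia M η)).index < N.index := by
    have h1 : M.relIndex (inertia M η) ∣ M.index := Subgroup.relIndex_dvd_index_of_normal _ _
    have h2 : M.index < N.index := Subgroup.index_strictAnti hNM
    exact lt_of_le_of_lt (Nat.le_of_dvd (Nat.pos_of_ne_zero Subgroup.index_ne_zero_of_finite) h1) h2
  have hQT : P' ⊔ M ≤ inertia M η := sup_le hP'T hMT
  have key := ih _ hlt (M.subgroupOf (inertia M η)) (η ∘ Subgroup.subgroupOfEquivOfLe hMT)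
    (isIrr_sub M _ hMT hη) (pSolvable_sub N M _ hNM.le hps) rfl (inertia_sub M hMT le_rfl)
    (by rwa [charDegree_comp_equiv]) (by rwa [detOrder_comp_equiv _ hη])
    ((P' ⊔ M).subgroupOf (inertia M η)) (Subgroup.comap_mono le_sup_right) (by
      rw [Subgroup.relIndex_subgroupOf hQT]
      exact relIndex_sup_pow N hNM.le (hrel ▸ hP))
  have hle : pos p (M.subgroupOf (inertia M η)).subtype (η ∘ Subgroup.subgroupOfEquivOfLe hMT) ≤
      pos p N.subtype θ :=
    (pos_inertia_le M hη hMT).trans (pos_le_of_over N hNM.le hθ hη hov)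
  have h1 : dser P' (pos p N.subtype θ + 1) ≤ M := by
    have h2 := (dser_anti ((P' ⊔ M).subgroupOf (inertia M η)) (Nat.succ_le_succ hle)).trans key
    have h3 := Subgroup.map_mono (f := (inertia M η).subtype) h2
    rw [map_dser, Subgroup.map_subgroupOf_eq_of_le hQT, Subgroup.map_subgroupOf_eq_of_le hMT] at h3
    exact (dser_mono le_sup_left _).trans h3
  have h2 : P' ⊓ M ≤ N := by
    rw [← Subgroup.relIndex_eq_one]
    have h3 : N.relIndex (P' ⊓ M) ∣ N.relIndex P' :=
      Lib.PSolvable.relIndex_dvd_relIndex_of_le_normal inf_le_left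
    have h4 : N.relIndex (P' ⊓ M) ∣ N.relIndex M :=
      Lib.PSolvable.relIndex_dvd_relIndex_of_le_normal inf_le_right
    obtain ⟨a, ha⟩ := hP
    rw [hrel, ha] at h3
    obtain ⟨j, -, hj⟩ := (Nat.dvd_prime_pow hp.out).1 h3
    rcases Nat.eq_zero_or_pos j with h0 | h0
    · rw [hj, h0, pow_zero]
    · exact absurd ((hj ▸ dvd_pow_self p h0.ne' : p ∣ N.relIndex (P' ⊓ M)).trans h4) hidx
  have h3 : dser P' (pos p N.subtype θ + 1) ≤ N := (le_inf (dser_le _ _) h1).trans h2
  rw [hP', ← map_dser] at h3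
  intro x hx
  have h4 := h3 ⟨x, hx, rfl⟩
  have h5 : g⁻¹ * x * g ∈ N := by
    simpa [MulAut.conj_apply] using h4
  have h6 := hN.conj_mem _ h5 g
  have e1 : g * (g⁻¹ * x * g) * g⁻¹ = x := by group
  rwa [e1] at h6

/-- a linear character of an abelian section of order divisible by `p` -/
theorem exists_lin {A : Subgroup G} (hNA : N < A) (hab : ∀ a ∈ A, ∀ b ∈ A, ⁅a, b⁆ ∈ N) :
    ∃ μ : A →* ℂˣ, μ ≠ 1 ∧ (∀ n : N, μ ⟨n, hNA.le n.2⟩ = 1) ∧
      ∀ x, μ x ^ N.relIndex A = 1 := by
  classical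
  obtain ⟨x, hx, hxN⟩ := SetLike.exists_of_lt hNA
  have hcomm : ∀ a b : A ⧸ N.subgroupOf A, a * b = b * a := by
    intro a b
    obtain ⟨a, rfl⟩ := QuotientGroup.mk_surjective a
    obtain ⟨b, rfl⟩ := QuotientGroup.mk_surjective b
    have h1 : ⁅(b : A)⁻¹, (a : A)⁻¹⁆ ∈ N.subgroupOf A :=
      hab _ (b⁻¹).2 _ (a⁻¹).2
    have h2 : (a * b)⁻¹ * (b * a) ∈ N.subgroupOf A := by
      have e : (a * b)⁻¹ * (b * a) = ⁅(b : A)⁻¹, (a : A)⁻¹⁆ := by
        rw [commutatorElement_def]
        group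
      rwa [e]
    exact QuotientGroup.eq.2 h2
  letI : CommGroup (A ⧸ N.subgroupOf A) :=
    { (inferInstance : Group (A ⧸ N.subgroupOf A)) with mul_comm := hcomm }
  have hx1 : (QuotientGroup.mk ⟨x, hx⟩ : A ⧸ N.subgroupOf A) ≠ 1 := by
    intro h
    rw [QuotientGroup.eq_one_iff] at h
    exact hxN h
  obtain ⟨f, hf⟩ := CommGroup.exists_apply_ne_one_of_hasEnoughRootsOfUnity
    (A ⧸ N.subgroupOf A) ℂ hx1
  refine ⟨f.comp (QuotientGroup.mk' (N.subgroupOf A)), ?_, ?_, ?_⟩
  · intro h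
    apply hf
    exact DFunLike.congr_fun h ⟨x, hx⟩
  · intro n
    have h1 : (QuotientGroup.mk' (N.subgroupOf A)) ⟨n, hNA.le n.2⟩ = 1 := by
      rw [QuotientGroup.mk'_apply, QuotientGroup.eq_one_iff]
      exact n.2
    rw [MonoidHom.comp_apply, h1, map_one]
  · intro y
    rw [← map_pow]
    have h1 : y ^ N.relIndex A ∈ N.subgroupOf A := Subgroup.pow_index_mem (N.subgroupOf A) y
    have h2 : (QuotientGroup.mk' (N.subgroupOf A)) (y ^ N.relIndex A) = 1 := by
      rw [QuotientGroup.mk'_apply, QuotientGroup.eq_one_iff]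
      exact h1
    rw [MonoidHom.comp_apply, h2, map_one]

/-- the canonical extension to a `p`-section -/
theorem exists_ext {θ : N → ℂ} (hθ : IsIrrCharacter N θ) (hinv : inertia N θ = ⊤)
    (hd : ¬ p ∣ charDegree θ) (ho : ¬ p ∣ detOrder θ) {A : Subgroup G} [hAn : A.Normal]
    (hNA : N ≤ A) (hA : ∃ k, N.relIndex A = p ^ k) :
    ∃ χ : A → ℂ, IsIrrCharacter A χ ∧ χ ∘ Subgroup.inclusion hNA = θ ∧
      charDegree χ = charDegree θ ∧ ¬ p ∣ detOrder χ ∧ inertia A χ = ⊤ := by
  obtain ⟨k, hk⟩ := hA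
  have hθ' := isIrr_sub N A hNA hθ
  have hinv' := inertia_sub N hNA (θ := θ) (T := A) (by rw [hinv]; exact le_top)
  have hcop : ∀ m : ℕ, ¬ p ∣ m → Nat.Coprime (N.subgroupOf A).index m := by
    intro m hm
    change Nat.Coprime (N.relIndex A) m
    rw [hk]
    exact Nat.Coprime.pow_left _ ((Nat.Prime.coprime_iff_not_dvd hp.out).2 hm)
  have ho' : detOrder (θ ∘ Subgroup.subgroupOfEquivOfLe hNA) = detOrder θ :=
    detOrder_comp_equiv _ hθ
  have h1 : ¬ p ∣ detOrder (θ ∘ Subgroup.subgroupOfEquivOfLe hNA) * charDegree θ := by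
    rw [ho']
    intro h
    rcases (Nat.Prime.dvd_mul hp.out).1 h with h | h
    · exact ho h
    · exact hd h
  obtain ⟨χ, ⟨hχ, hres, hdet⟩, huniq⟩ := S0867.result (N.subgroupOf A)
    (θ ∘ Subgroup.subgroupOfEquivOfLe hNA) hθ' (fun g n => by
      have h2 : g ∈ inertia (N.subgroupOf A) (θ ∘ Subgroup.subgroupOfEquivOfLe hNA) := by
        rw [hinv']
        exact Subgroup.mem_top g
      exact mem_inertia_iff.1 h2 n) (charDegree θ) (by
      rw [Function.comp, map_one]
      exact (coe_charDegree hθ).symm) (hcop _ h1)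
  have hres' : χ ∘ Subgroup.inclusion hNA = θ := by
    funext n
    exact hres ⟨⟨n, hNA n.2⟩, n.2⟩
  have hoχ : ¬ p ∣ detOrder χ := by rwa [hdet, ho']
  refine ⟨χ, hχ, hres', ?_, hoχ, ?_⟩
  · apply charDegree_of_eq
    rw [coe_charDegree hθ, ← hres', Function.comp, map_one]
  · rw [eq_top_iff]
    intro g _
    rw [mem_inertia]
    apply huniq
    · exact isIrr_comp (MulAut.conjNormal g : MulAut A).toMonoidHom
        (MulAut.conjNormal g : MulAut A).surjective hχ
    · intro n
      have h2 : g ∈ inertia N θ := by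
        rw [hinv]
        exact Subgroup.mem_top g
      have h3 := mem_inertia_iff.1 h2 ⟨(n : A), n.2⟩
      have h4 : (χ ∘ (MulAut.conjNormal g : MulAut A)) n =
          (χ ∘ Subgroup.inclusion hNA) ⟨g * (n : A) * g⁻¹, hN.conj_mem _ n.2 g⟩ := rfl
      rw [h4, hres', h3]
      rfl
    · refine hcop _ ?_
      have h2 := detOrder_comp_equiv (MulAut.conjNormal g : MulAut A) hχ
      rwa [h2]

/-- the step for an abelian `p`-section -/
theorem star_p (hgoal : ∀ k, Goal.{u} p k) (ih : ∀ k < N.index, Star.{u} p k) {θ : N → ℂ}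
    (hθ : IsIrrCharacter N θ) (hps : IsPSolvable p (G ⧸ N)) (hinv : inertia N θ = ⊤)
    (hd : ¬ p ∣ charDegree θ) (ho : ¬ p ∣ detOrder θ) {A : Subgroup G} [hA : A.Normal]
    (hNA : N < A) (hidx : ∃ k, N.relIndex A = p ^ k) (hab : ∀ a ∈ A, ∀ b ∈ A, ⁅a, b⁆ ∈ N)
    (hpos : 1 ≤ pos p N.subtype θ) (P : Subgroup G) (hP : ∃ a, N.relIndex P = p ^ a) :
    dser P (pos p N.subtype θ + 1) ≤ N := by
  classical
  letI := Fintype.ofFinite G
  letI := Fintype.ofFinite A
  haveI := finite_irr (G := G)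
  obtain ⟨χ, hχ, hres, hdχ, hoχ, hinvχ⟩ := exists_ext N hθ hinv hd ho hNA.le hidx
  have hov : Over (Subgroup.inclusion hNA.le) χ θ := by
    letI := Fintype.ofFinite N
    rw [over_iff, hres, classInner_irr_self hθ]
    exact one_ne_zero
  have hpsA : IsPSolvable p (G ⧸ A) := by
    refine Lib.PSolvable.IsPSolvable_of_surjective p hps
      (QuotientGroup.map N A (MonoidHom.id G) (by rw [Subgroup.comap_id]; exact hNA.le)) ?_
    intro x
    obtain ⟨g, rfl⟩ := QuotientGroup.mk_surjective x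
    exact ⟨QuotientGroup.mk g, rfl⟩
  have hlt : A.index < N.index := Subgroup.index_strictAnti hNA
  have hAN : dser A 1 ≤ N := by
    rw [dser_succ, dser_zero, Subgroup.commutator_le]
    exact hab
  have hPA := relIndex_sup_pow N hNA.le hP
  have hle : pos p A.subtype χ ≤ pos p N.subtype θ := pos_le_of_over N hNA.le hθ hχ hov
  rcases Nat.lt_or_ge (pos p A.subtype χ) (pos p N.subtype θ) with h | h
  · have key := ih _ hlt A χ hχ hpsA rfl hinvχ (by rwa [hdχ]) hoχ (P ⊔ A) le_sup_right hPA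
    have h1 : dser P (pos p A.subtype χ + 1) ≤ A := (dser_mono le_sup_left _).trans key
    exact (dser_anti P (by omega)).trans (dser_add_le h1 hAN)
  · -- every character over `θ` of degree divisible by `p` lies over `χ`
    have hall : ∀ ξ : IrrCharacter G, Over N.subtype (ξ : G → ℂ) θ →
        p ∣ charDegree (ξ : G → ℂ) → Over A.subtype (ξ : G → ℂ) χ := by
      let F : {ξ : IrrCharacter G // Over A.subtype (ξ : G → ℂ) χ ∧ p ∣ charDegree (ξ : G → ℂ)} →
          {ξ : IrrCharacter G // Over N.subtype (ξ : G → ℂ) θ ∧ p ∣ charDegree (ξ : G → ℂ)} :=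
        fun ξ => ⟨ξ.1, over_trans N hNA.le hθ hχ hov ξ.1.2 ξ.2.1, ξ.2.2⟩
      have hF : Function.Injective F := fun ξ ξ' h1 => Subtype.ext (Subtype.mk.inj h1)
      have hF' := hF.bijective_of_nat_card_le h
      intro ξ h1 h2
      obtain ⟨ξ', hξ'⟩ := hF'.2 ⟨ξ, h1, h2⟩
      have h3 : ξ'.1 = ξ := Subtype.mk.inj hξ'
      rw [← h3]
      exact ξ'.2.1
    obtain ⟨μ, hμ1, hμN, hμp⟩ := exists_lin N hNA hab
    obtain ⟨k, hk⟩ := hidx
    have hψ : IsIrrCharacter A (fun a => (μ a : ℂ) * χ a) := isIrr_mul_lf μ hχ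
    have hne : (fun a => (μ a : ℂ) * χ a) ≠ χ := by
      intro h0
      exact hμ1 (eq_one_of_mul_eq hp.out hχ (by rwa [hdχ]) (fun x => by rw [← hk]; exact hμp x) h0)
    have hovψ : Over (Subgroup.inclusion hNA.le) (fun a => (μ a : ℂ) * χ a) θ := by
      letI := Fintype.ofFinite N
      have h1 : (fun a => (μ a : ℂ) * χ a) ∘ Subgroup.inclusion hNA.le = θ := by
        conv_rhs => rw [← hres]
        funext n
        have h2 : μ (Subgroup.inclusion hNA.le n) = 1 := hμN n
        rw [Function.comp_apply, h2, Units.val_one, one_mul]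
        rfl
      rw [over_iff, h1, classInner_irr_self hθ]
      exact one_ne_zero
    have hrel : RelP p A.subtype (fun a => (μ a : ℂ) * χ a) := by
      intro ξ hξ h1 h2
      have h3 : p ∣ charDegree ξ := (dvd_mul_right _ _).trans h2
      have h4 := over_trans N hNA.le hθ hψ hovψ hξ h1
      have h5 := hall ⟨ξ, hξ⟩ h4 h3
      obtain ⟨e, -, h6, -⟩ := restrict_eq A hχ hinvχ hξ h5
      rw [over_iff] at h1
      apply h1
      have h7 : ξ ∘ A.subtype = (e : ℂ) • χ := by
        funext a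
        rw [Pi.smul_apply, smul_eq_mul]
        exact h6 a
      rw [h7, classInner_smul_left, classInner_irr_ne hχ hψ (Ne.symm hne), mul_zero]
    have hAb : AbP p A := hgoal A.index A _ hψ hpsA rfl hrel
    have h1 : dser P 1 ≤ A := by
      rw [dser_succ, dser_zero, Subgroup.commutator_le]
      intro a ha b hb
      exact hAb (P ⊔ A) le_sup_right hPA a (le_sup_left (a := P) ha) b (le_sup_left (a := P) hb)
    exact (dser_anti P (by omega)).trans (dser_add_le h1 hAN)

end

/-- The derived length modulo `N`. -/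
theorem star {p : ℕ} [hp : Fact p.Prime] (hgoal : ∀ k, Goal.{u} p k) (n : ℕ) : Star.{u} p n := by
  induction n using Nat.strong_induction_on with
  | _ n ih =>
  intro G _ _ N hN θ hθ hps hidx hinv hd ho P hNP hP
  subst hidx
  by_cases hNt : N = ⊤
  · exact le_top.trans hNt.ge
  rcases Nat.eq_zero_or_pos (pos p N.subtype θ) with h0 | h0
  · haveI := finite_irr (G := G)
    have hrel : RelP p N.subtype θ := by
      intro ξ hξ h1 h2
      unfold pos at h0
      have h3 : p ∣ charDegree ξ := (dvd_mul_right _ _).trans h2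
      rcases Nat.card_eq_zero.1 h0 with h4 | h4
      · exact h4.false ⟨⟨ξ, hξ⟩, h1, h3⟩
      · exact h4.not_finite inferInstance
    have hAb : AbP p N := hgoal N.index N θ hθ hps rfl hrel
    rw [h0, dser_succ, dser_zero, Subgroup.commutator_le]
    intro a ha b hb
    exact hAb P hNP hP a ha b hb
  · obtain ⟨M, hM, hNM, h | ⟨h1, h2⟩⟩ := exists_step (p := p) N hps hNt
    · exact star_pp N ih hθ hps hinv hd ho hNM h P hNP hP
    · exact star_p N hgoal ih hθ hps hinv hd ho hNM h1 h2 h0 P hP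

end Cfsg.Agent.H676.DL
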