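import Mathlib
import Cfsg.Agent.H676.DL.Star
import Cfsg.Agent.H625.FongRank

/-!
# The derived length of a defect group and the number of characters of positive height
-/

set_option autoImplicit false
set_option linter.style.haveILetI false
set_option linter.unusedSectionVars false
open Cfsg

namespace Cfsg.Agent.H676.DL

open Cfsg.Agent.Characters.Core
open Cfsg.Agent.OddOrderCharacters Cfsg.Agent.OddOrderCharacters.IndRes
open Cfsg.Agent.OddOrderCharacters.PF9.CliffGen (mem_inertia mem_inertia')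
open Cfsg.Agent.H511.Wt (dser dser_succ dser_mono dser_anti dser_add_le map_dser dser_le dser_zero
  dser_eq_bot_iff)
open Cfsg.Agent.H586.GW (Goal RelP AbP)
open Cfsg.Agent.H625 Cfsg.Agent.Blocks.Knorr Cfsg.Agent.OddOrderCharacters.NormalInduced
open scoped ComplexConjugate commutatorElement

universe u

/-- the number of characters of positive height -/
noncomputable def hcount (p : ℕ) {G : Type*} [Group G] (B : Set (IrrCharacter G)) : ℕ :=
  Nat.card {χ : IrrCharacter G // χ ∈ B ∧ blockHeight p B (χ : G → ℂ) ≠ 0}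

/-- The case of a `G`-invariant character of `O_{p'}(G)`. -/
theorem base {G : Type u} [Group G] [Finite G] {p : ℕ} [hp : Fact p.Prime]
    (hgoal : ∀ k, Goal.{u} p k) {M : Ideal AlgInt}
    (hM : IsPModular p M) (hG : IsPSolvable p G)
    {N : Subgroup G} [hN : N.Normal] [Fintype N] (hNdef : N = pPrimeCore p G)
    {θ : IrrCharacter N} (hinv : H672.inertia N (θ : N → ℂ) = ⊤)
    {B : Set (IrrCharacter G)} (hB : IsPBlock M B)
    (hmem : ∀ χ : IrrCharacter G, χ ∈ B ↔
      classInner (fun n : N => (χ : G → ℂ) n) (θ : N → ℂ) ≠ 0)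
    (P : Sylow p G) (hP : IsDefectGroup p M B (P : Subgroup G)) :
    dser (P : Subgroup G) (hcount p B + 1) = ⊥ := by
  classical
  have hNc : (Nat.card N).Coprime p := by rw [hNdef]; exact Lib.Cores.pPrimeCore_coprime p
  have hNp : ¬ p ∣ Nat.card N := (Nat.Prime.coprime_iff_not_dvd hp.out).1 hNc.symm
  have hND : N ⊓ (P : Subgroup G) = ⊥ := by
    have h1 : IsPGroup p (N ⊓ (P : Subgroup G) : Subgroup G) := P.isPGroup'.to_le inf_le_right
    obtain ⟨k, hk⟩ := (IsPGroup.iff_card (p := p)).1 h1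
    have h2 : p ^ k ∣ Nat.card N := hk ▸ Subgroup.card_dvd_of_le inf_le_left
    rw [← Subgroup.card_eq_one, hk]
    rcases Nat.eq_zero_or_pos k with h0 | h0
    · rw [h0, pow_zero]
    · exact absurd ((dvd_pow_self p h0.ne').trans h2) hNp
  have hps : IsPSolvable p (G ⧸ N) := Lib.PSolvable.IsPSolvable_of_surjective p hG
    (QuotientGroup.mk' _) (QuotientGroup.mk'_surjective _)
  have hd : ¬ p ∣ charDegree (θ : N → ℂ) := fun h =>
    hNp (h.trans (S4492.degree_dvd_card θ.2 (Blocks.Basic.irr_one_eq_charDegree θ.2)))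
  have ho : ¬ p ∣ detOrder (θ : N → ℂ) := fun h => hNp (h.trans (H706.Canon.detOrder_dvd θ.2))
  have hidx : ∃ a, N.relIndex ((P : Subgroup G) ⊔ N) = p ^ a := by
    obtain ⟨k, hk⟩ := (IsPGroup.iff_card (p := p)).1 P.isPGroup'
    have h3 : N.relIndex ((P : Subgroup G) ⊔ N) ∣ p ^ k := by
      rw [← hk, sup_comm, Subgroup.relIndex_sup_left]
      exact Subgroup.relIndex_dvd_card N (P : Subgroup G)
    obtain ⟨j, -, hj⟩ := (Nat.dvd_prime_pow hp.out).1 h3
    exact ⟨j, hj⟩
  have key := star hgoal N.index N (θ : N → ℂ) θ.2 hps rfl hinv hd ho ((P : Subgroup G) ⊔ N)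
    le_sup_right hidx
  have hpos : pos p N.subtype (θ : N → ℂ) = hcount p B := by
    unfold pos hcount
    refine Nat.card_congr (Equiv.subtypeEquivRight fun χ => ?_)
    rw [hmem χ, H672.over_subtype_iff]
    refine and_congr Iff.rfl ?_
    have h1 := PHZ.height_iff hM hB hP (χ := χ)
    rw [Ne, h1, not_not]
  rw [hpos] at key
  rw [eq_bot_iff, ← hND]
  exact le_inf ((dser_mono le_sup_left _).trans key) (dser_le _ _)

/-- **The theorem**, given the theorem of Gluck and Wolf. -/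
theorem main_aux (p : ℕ) [hp : Fact p.Prime] (hgoal : ∀ k, Goal.{u} p k) (M : Ideal AlgInt)
    (hM : IsPModular p M) (n : ℕ) :
    ∀ (G : Type u) [Group G] [Finite G] (B : Set (IrrCharacter G)) (D : Subgroup G),
      Nat.card G = n → IsPSolvable p G → IsPBlock M B → IsDefectGroup p M B D →
      dser D (hcount p B + 1) = ⊥ := by
  induction n using Nat.strong_induction_on with
  | _ n ih =>
  intro G _ _ B D hcard hG hB hD
  classical
  have hMp := Blocks.Local.isPrime_of_isPModular hM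
  have := Fintype.ofFinite G
  obtain ⟨N, hNdef⟩ : ∃ N, N = pPrimeCore p G := ⟨_, rfl⟩
  have hN : N.Normal := by rw [hNdef]; exact Lib.Cores.pPrimeCore_normal p
  have hNc : (Nat.card N).Coprime p := by rw [hNdef]; exact Lib.Cores.pPrimeCore_coprime p
  have := Fintype.ofFinite N
  obtain ⟨χ, hχ⟩ := Blocks.Basic.isPBlock_nonempty hB
  obtain ⟨θ, hθ⟩ := Blocks.Fong.exists_constituent N χ
  have hbθ : IsPBlock M ({θ} : Set (IrrCharacter N)) := by
    refine ⟨θ, ((S0914.result p M hM θ).1 ?_).symm⟩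
    intro hd
    have h1 : Nat.card N / charDegree (θ : N → ℂ) ∣ Nat.card N :=
      Nat.div_dvd_of_dvd (S4492.degree_dvd_card θ.2 (Blocks.Basic.irr_one_eq_charDegree θ.2))
    exact (Nat.Prime.coprime_iff_not_dvd hp.out).1 hNc.symm (hd.trans h1)
  obtain ⟨T, hTdef⟩ : ∃ T, T = PF9.CliffGen.inertia N (θ : N → ℂ) := ⟨_, rfl⟩
  have hst : H591.Reynolds.IsStab ({θ} : Set (IrrCharacter N)) T := by
    intro g
    rw [hTdef, mem_inertia']
    constructor
    · intro h θ₁ hθ₁ θ' hθ'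
      rw [Set.mem_singleton_iff] at hθ₁ ⊢
      subst hθ₁
      exact Subtype.ext (funext fun n => (hθ' n).trans (h n))
    · intro h n
      have hirr : IsIrrCharacter N (conjFn N (θ : N → ℂ) g) := isIrr_conjFn N θ.2 g
      have h1 := h θ rfl ⟨_, hirr⟩ (fun n => rfl)
      rw [Set.mem_singleton_iff] at h1
      exact congrFun (congrArg Subtype.val h1) n
  have hNT : N ≤ T := hst.le hbθ
  have := Fintype.ofFinite T
  by_cases hT : T = ⊤
  · -- `θ` is invariant
    have hinv : ∀ (g : G) (n : N), (θ : N → ℂ) ⟨g * n * g⁻¹, hN.conj_mem n n.2 g⟩ =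
        (θ : N → ℂ) n := by
      intro g
      have hg : g ∈ T := by rw [hT]; exact Subgroup.mem_top g
      rw [hTdef] at hg
      exact mem_inertia'.1 hg
    have hinv' : H672.inertia N (θ : N → ℂ) = ⊤ := by
      rw [eq_top_iff]
      intro g _
      exact H672.mem_inertia_iff.2 (hinv g)
    obtain ⟨B₁, hB₁, hmem, hsyl, hDs⟩ := S4492.result p M hM hG N hNdef θ hinv
    have hχ₁ : χ ∈ B₁ := (hmem χ).2 hθ
    obtain rfl : B = B₁ := Blocks.Basic.isPBlock_eq_of_mem hB hB₁ hχ hχ₁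
    obtain ⟨P, rfl⟩ := hDs D hD
    exact base hgoal hM hG hNdef hinv' hB hmem P hD
  · have hTlt : Nat.card T < n := by
      rw [← hcard]
      exact lt_of_le_of_ne (Nat.le_of_dvd Nat.card_pos T.card_subgroup_dvd_card) fun h =>
        hT (Subgroup.eq_top_of_card_eq T h)
    have hcov : ∃ χ ∈ B, ∃ θ' ∈ ({θ} : Set (IrrCharacter N)),
        classInner (fun n : N => (χ : G → ℂ) n) (θ' : N → ℂ) ≠ 0 := ⟨χ, hχ, θ, rfl, hθ⟩
    obtain ⟨B', hB', ⟨ψ₀, hψ₀, θ₀, hθ₀, h₀⟩, hi⟩ :=
      (S4435.result p M hM N {θ} hbθ T hst hNT).2.2 B hB hcov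
    have hcov' : ∃ ψ ∈ B', ∃ θ' ∈ ({θ} : Set (IrrCharacter N)),
        classInner (fun n : N => (ψ : T → ℂ) ⟨(n : G), hNT n.2⟩) (θ' : N → ℂ) ≠ 0 :=
      ⟨ψ₀, hψ₀, θ₀, hθ₀, h₀⟩
    have hTs : IsPSolvable p T :=
      Lib.PSolvable.IsPSolvable_of_injective p hG T.subtype T.subtype_injective
    obtain ⟨D', hD', -⟩ := S0931.exists_defectGroup p M hM B' hB'
    have h2 := S4436.result p M hM N {θ} hbθ T hst hNT B' hB' hcov' B hi
    obtain ⟨c, rfl⟩ := PSolvOne.defect_conj hM hB (h2.1 D' hD') hD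
    have hkey := ih _ hTlt T B' D' rfl hTs hB' hD'
    obtain ⟨e, he⟩ := FongRank.exists_equiv p hM hbθ hst hNT hB' hψ₀ hθ₀ h₀ hi
    haveI := finite_irr (G := G)
    have hle : hcount p B' ≤ hcount p B := by
      unfold hcount
      refine Nat.card_le_card_of_injective (fun ψ => ⟨(e ⟨ψ.1, ψ.2.1⟩).1, (e ⟨ψ.1, ψ.2.1⟩).2, ?_⟩) ?_
      · obtain ⟨χ₂, hχ₂, hχ₂', hh⟩ := h2.2 ψ.1 ψ.2.1
        have h3 : (e ⟨ψ.1, ψ.2.1⟩).1 = χ₂ := Subtype.ext ((he _).trans hχ₂'.symm)
        rw [h3, hh]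
        exact ψ.2.2
      · intro ψ ψ' h
        have h3 : (e ⟨ψ.1, ψ.2.1⟩).1 = (e ⟨ψ'.1, ψ'.2.1⟩).1 := Subtype.mk.inj h
        have h4 := e.injective (Subtype.ext h3)
        exact Subtype.ext (Subtype.mk.inj h4)
    have h3 : dser D' (hcount p B + 1) = ⊥ := by
      rw [eq_bot_iff, ← hkey]
      exact dser_anti D' (Nat.succ_le_succ hle)
    rw [← map_dser, ← map_dser, h3, Subgroup.map_bot, Subgroup.map_bot]

/-- **The theorem**, given the theorem of Gluck and Wolf. -/
theorem main {G : Type u} [Group G] [Finite G] (p : ℕ) [hp : Fact p.Prime]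
    (hgoal : ∀ k, Goal.{u} p k) (hG : IsPSolvable p G) (M : Ideal AlgInt)
    (hM : IsPModular p M) (B : Set (IrrCharacter G)) (hB : IsPBlock M B)
    (D : Subgroup G) (hD : IsDefectGroup p M B D) :
    derivedSeries D (Nat.card {χ : IrrCharacter G // χ ∈ B ∧ blockHeight p B (χ : G → ℂ) ≠ 0} + 1)
      = ⊥ := by
  rw [← dser_eq_bot_iff]
  exact main_aux p hgoal M hM _ G B D rfl hG hB hD

end Cfsg.Agent.H676.DL
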